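import Cfsg.Agent.Lib.PresCert.Check

/-!
Coset table certificate (generated data).
-/

namespace CfsgLib.Spor.Y555.A4

open CfsgLib.PresCert

noncomputable def tab : BTree := (.leaf 0x8044000800004000802400078000400080040007000040000010000680003000808400060000300080640005800030000010000500002000000000068000400080a400048000200000100003800010000000000500003001002400040000200000100002000000000000000380002001008400030000100100440002800010000000000200001000004800018000000000280001000000000008000080000)

noncomputable def par : BTree := (.leaf 0x30000000000100002000000000020000100000000003000000000000000000000)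

noncomputable def fact : BTree := (.leaf 0x0)

/-- the certificate -/
noncomputable def cert : Cert where
  n := 5
  v := 0
  g := 4
  inv := [0, 1, 2, 3]
  rels := [[0, 1, 0, 1, 0, 1], [0, 2, 0, 2], [0, 3, 0, 3], [1, 2, 1, 2, 1, 2], [1, 3, 1, 3], [2, 3, 2, 3, 2, 3]]
  subs := [[0], [1], [2]]
  tab := tab
  par := par
  fact := fact
  nfact := 0

/-- justifications -/
noncomputable def justs : List Cert.Just := []

end CfsgLib.Spor.Y555.A4
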