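import Cfsg.Agent.Lib.PresCert.Check

/-!
Coset table certificate (generated data).
-/

namespace CfsgLib.Spor.Y555.D5

open CfsgLib.PresCert

noncomputable def tab : BTree := (.node (.node (.leaf 0x100a4000c000040000000000f000080008104000b000050000000000d0000700000100009800030010084000a800050010024000a000050008124000900004000001000078000200100e40008800040000010000c00006001004400080000400080c40007000030000000000b800060000000000980005000001000060000200100040006800030008064000580002000000000078000400080240005000020000000000600003000001000048000100000100002800000010124000400001001010400038000100100c4000300001000000000048000200000000002800010000068000200000000000800008000000000280001000000000048000180000) (.leaf 0x8124001e0000f0000010001c0000e00100e4001d8000f00100a4001d0000f0010044001c8000f0008064001b8000e0000000001c0000f0008024001b0000e0008004001a8000e0000010001a0000d000001000180000b001012400198000d001010400190000d00100c400188000c0000000001a0000e0000010001600009)) (.node (.leaf 0x1012400178000c001010400170000a000001000188000d001006400168000c000000000180000d00080a400158000b000808400150000b0000010001400009001000400148000b0000010001200008001012400138000a000001000170000c00100c400130000a001006400128000a000000000160000c00080440011800090008024001100008000000000140000b0000010001080007000000000120000a000804400100000800000100011000090008004000f800080000010000f000060008124000e800070000010000d0000500100e4000e0000600100a4000d8000700000000010800090008124000c800060000010000b800030000010000e00007)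 (.leaf 0x0)))

noncomputable def par : BTree := (.leaf 0x30000e000000000000000d000000000040000b0000000000400009000000000010000900000000004000080000000000000007000000000000000600000000003000050000000000300003000000000020000300000000003000020000000000100002000000000000000100000000004000000000000000000000)

noncomputable def fact : BTree := (.leaf 0x0)

/-- the certificate -/
noncomputable def cert : Cert where
  n := 16
  v := 0
  g := 5
  inv := [0, 1, 2, 3, 4]
  rels := [[0, 1, 0, 1, 0, 1], [0, 2, 0, 2], [0, 3, 0, 3, 0, 3], [0, 4, 0, 4, 0, 4], [1, 2, 1, 2, 1, 2], [1, 3, 1, 3], [1, 4, 1, 4], [2, 3, 2, 3], [2, 4, 2, 4], [3, 4, 3, 4]]
  subs := [[2], [1], [0], [3]]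
  tab := tab
  par := par
  fact := fact
  nfact := 0

/-- justifications -/
noncomputable def justs : List Cert.Just := []

end CfsgLib.Spor.Y555.D5
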