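import Cfsg.Agent.Lib.PresCert.Descent

/-!
Suborbits of a coset table (generated data).
-/

namespace CfsgLib.Spor.Y555

open CfsgLib.PresCert

/-- forest of suborbits -/
noncomputable def forestA2 : BTree := (.leaf 0x10010000100000000000000000000000000000000)

/-- suborbit data -/
noncomputable def subA2 : SubData where
  H := [1]
  forest := forestA2
  roots := [0, 1]
  fixed := [0]
  kill := [(1, [0], [1], [0, 1], [[], [none, some 1]])]

end CfsgLib.Spor.Y555
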