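import Cfsg.Agent.Lib.PresCert.Descent

/-!
Suborbits of a coset table (generated data).
-/

namespace CfsgLib.Spor.Y555

open CfsgLib.PresCert

/-- forest of suborbits -/
noncomputable def forestA4 : BTree := (.leaf 0x3000030000000100200002000000020010000100000000000000000000000000000000)

/-- suborbit data -/
noncomputable def subA4 : SubData where
  H := [0, 1, 2]
  forest := forestA4
  roots := [0, 1]
  fixed := [0]
  kill := [(1, [3], [2], [3, 2], [[], [none, some 2]])]

end CfsgLib.Spor.Y555
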