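import Cfsg.Agent.Lib.PresCert.Descent

/-!
Suborbits of a coset table (generated data).
-/

namespace CfsgLib.Spor.Y555

open CfsgLib.PresCert

/-- forest of suborbits -/
noncomputable def forestD5 : BTree := (.leaf 0x30040000e000000000030000d000000010020000c000000020010000a000000010060000900000000000000000000000000500007000000000040000600000003004000050000000300300003000000020030000300000003002000020000000100200002000000000010000100000000000000000000000000000000)

/-- suborbit data -/
noncomputable def subD5 : SubData where
  H := [2, 1, 0, 3]
  forest := forestD5
  roots := [0, 1, 10]
  fixed := [0]
  kill := [(1, [4], [0], [4, 0], [[], [none, some 0], [none, some 1, some 3, some 0, none]]),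
    (10, [4, 0, 3, 1, 0, 4], [2], [4, 0, 1, 2], [[], [none, some 2, some 1, some 0], [none, some 3, none, none, none]])]

end CfsgLib.Spor.Y555
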