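import Cfsg.Agent.Lib.PresCert.Descent

/-!
Suborbits of a coset table (generated data).
-/

namespace CfsgLib.Spor.Y555

open CfsgLib.PresCert

/-- forest of suborbits -/
noncomputable def forestE6 : BTree := (.leaf 0x200800019000000010070001800000000006000170000000500500015000000050040001300000003004000130000000500a0001100000000003000120000000100200010000000000090000f000000020010000e000000030080000c0000000000000000000000030070000a000000010070000a000000030060000900000000006000080000000000500007000000050050000600000005004000040000000200400004000000050030000300000001003000030000000000200002000000030010000100000000000000000000000000000000)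

/-- suborbit data -/
noncomputable def subE6 : SubData where
  H := [0, 1, 2, 3, 5]
  forest := forestE6
  roots := [0, 1, 14]
  fixed := [0]
  kill := [(1, [4], [3], [4, 3], [[], [none, some 3], [none, some 0, some 1, some 5, some 0, some 3, none]]),
    (14, [4, 3, 0, 5, 1, 0, 3, 4], [2], [4, 3, 0, 1, 2], [[], [none, some 2, some 1, some 0, some 3], [none, some 5, none, none, none, none]])]

end CfsgLib.Spor.Y555
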