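import Cfsg.Agent.Lib.PresCert.Descent

/-!
Suborbits of a coset table (generated data).
-/

namespace CfsgLib.Spor.Y555

open CfsgLib.PresCert

/-- forest of suborbits -/
noncomputable def forestE7 : BTree := (.node (.leaf 0xe0001c000000050040001b000000010040001b0000000500d0001900000000003000170000000500c000160000000100c000160000000500b0001500000003002000140000000000b000130000000000a0001100000004001000120000000300a000100000000000000000000000030090000d000000020090000d000000020080000c000000030080000b000000010080000b000000010070000a000000000070000900000000006000080000000500600007000000050050000500000004005000050000000500400004000000030040000400000000003000030000000100200002000000020010000100000000000000000000000000000000) (.leaf 0x2010000350000000100f000340000000000e000330000000500d000310000000500c0002f0000000300c0002f0000000500b0002e0000000400b0002e0000000000a0002c0000000400a0002c000000030090002a0000000400900029000000010080002700000003008000270000000400800026000000000070002400000003007000230000000401000022000000050060002100000000006000200000000300f0001f000000020050001d000000050050001d))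

/-- suborbit data -/
noncomputable def subE7 : SubData where
  H := [0, 1, 2, 3, 4, 5]
  forest := forestE7
  roots := [0, 1, 18, 55]
  fixed := [0, 55]
  kill := [(1, [6], [2], [6, 2], [[], [none, some 2], [none, some 1, some 0, some 3, some 5, some 0, some 1, some 2, none], [none, some 1, some 0, some 3, some 4, some 5, some 0, some 1, some 2, some 3, some 0, some 1, some 5, some 0, some 3, some 4, none, some 1, some 0, some 3, some 5, some 0, some 1, some 2, none]]),
    (18, [6, 2, 1, 0, 5, 3, 0, 1, 2, 6], [4], [6, 2, 1, 0, 3, 4], [[], [none, some 4, some 3, some 0, some 1, some 2], [none, some 5, none, none, none, none, none], [none, some 5, none, none, some 5, none, none, some 5, some 0, some 1, some 2, none]])]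

end CfsgLib.Spor.Y555
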