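import Cfsg.Agent.Lib.Spor.Y555.Ident
import Cfsg.Agent.Lib.Spor.Y555.T4Cert
import Cfsg.Agent.Lib.Spor.Y555.T5Cert
import Cfsg.Agent.Lib.Spor.Y555.SubT5
import Cfsg.Agent.Lib.Spor.Y555.SubT1a
import Cfsg.Agent.Lib.Spor.Y555.SubT2
import Cfsg.Agent.Lib.Spor.Y555.SubE7
import Cfsg.Agent.Lib.Spor.Y555.SubE6
import Cfsg.Agent.Lib.Spor.Y555.SubD5
import Cfsg.Agent.Lib.Spor.Y555.SubA4
import Cfsg.Agent.Lib.Spor.Y555.SubA3
import Cfsg.Agent.Lib.Spor.Y555.SubA2

/-!
Central elements of the images of Y322 and Y332.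
-/

namespace CfsgLib.Spor.Y555

open CfsgLib.PresCert Cfsg.Spor Cfsg.Spor.Bimonster

variable {Q : Type*} [Group Q] {f : Gen → Q}

theorem commute_of_closure {l : List Gen} {q h : Q} (hc : ∀ x ∈ l, Commute q (f x))
    (hh : h ∈ lettersGroup l f) : Commute q h := by
  have hle : lettersGroup l f ≤ Subgroup.centralizer {q} := by
    rw [lettersGroup, Subgroup.closure_le]
    rintro _ ⟨x, hx, rfl⟩
    exact Subgroup.mem_centralizer_singleton_iff.2 (hc x hx).eq.symm
  exact (Subgroup.mem_centralizer_singleton_iff.1 (hle hh)).symm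

theorem Sys.coll_of_mem (S : Sys f) {l : List Gen} {x y : Gen}
    (hl : (l.all fun u => Nat.beq (coxLabel edges y u) 2) = true)
    (hxy : coxLabel edges y x = 3) (hx : f x ∈ lettersGroup l f) : Coll f :=
  S.coll_of_comm hxy (commute_of_closure
    (fun u hu => S.comm (Nat.eq_of_beq_eq_true (List.all_eq_true.1 hl u hu))) hx)

/-- one step down in a table -/
theorem Sys.descend (S : Sys f) {C : Cert} {js : List Cert.Just} (V : Cert.Valid C js)
    (D : SubData) (sel subs : List Gen) (hr : okRels C sel known16 .a = true)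
    (hs : okSubs C sel (subs.map fun x => [x]) .a = true)
    (hH : D.H.map (fun x => sel.getD x .a) = subs) (hD : D.ok C = true)
    {q : Q} (hq : q ∈ lettersGroup sel f) (hc : ∀ x ∈ subs, Commute q (f x)) :
    (∃ r ∈ D.fixed, ∀ w : List Nat, (∀ x ∈ w, x < C.g) → C.app w 0 = r →
        q * (((w.map fun x => sel.getD x .a).map f).prod)⁻¹ ∈ lettersGroup subs f) ∨
      ∀ x ∈ sel, f x ∈ lettersGroup subs f := by
  obtain ⟨v, h0, hv, hcov⟩ := exists_reps V S.sq S.known hr hs
  simp only [wordsGroup_singletons] at hv hcov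
  have hdest : ∀ c < C.n, ∀ x < C.g, C.dest c x < C.n := fun c hc x hx => Cert.dest_lt V hc hx
  have hmem : ∀ x ∈ D.H, sel.getD x .a ∈ subs := fun x hx => hH ▸ List.mem_map.2 ⟨x, hx, rfl⟩
  obtain ⟨c₀, hc₀, hqc⟩ := hcov q hq
  rcases centralizing_coset hD hdest h0 hv
      (fun x hx => Subgroup.subset_closure ⟨_, hmem x hx, rfl⟩) (fun x hx => hc _ (hmem x hx))
      hc₀ hqc with ⟨r, hr', hqr⟩ | h
  · refine Or.inl ⟨r, hr', fun w hw hwr => ?_⟩
    obtain ⟨-, h2⟩ := app_rel hdest hv w 0 V.pos hw
    rw [h0, one_mul, hwr] at h2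
    convert Subgroup.mul_mem _ hqr (Subgroup.inv_mem _ h2) using 1
    group
  · refine Or.inr fun x hx => ?_
    obtain ⟨i, hi, rfl⟩ := List.getElem_of_mem hx
    simp only [okRels, Bool.and_eq_true, decide_eq_true_eq] at hr
    have := h i (hr.1.1 ▸ hi)
    rwa [List.getD_eq_getElem?_getD, List.getElem?_eq_getElem hi] at this

/-- descent when only the first coset is fixed -/
theorem Sys.descend_zero (S : Sys f) {C : Cert} {js : List Cert.Just} (V : Cert.Valid C js)
    (D : SubData) (sel subs : List Gen) (hr : okRels C sel known16 .a = true)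
    (hs : okSubs C sel (subs.map fun x => [x]) .a = true)
    (hH : D.H.map (fun x => sel.getD x .a) = subs) (hD : D.ok C = true) (hfix : D.fixed = [0])
    {x y : Gen} (hx : x ∈ sel) (hl : (subs.all fun u => Nat.beq (coxLabel edges y u) 2) = true)
    (hxy : coxLabel edges y x = 3)
    {q : Q} (hq : q ∈ lettersGroup sel f) (hc : ∀ u ∈ subs, Commute q (f u)) :
    q ∈ lettersGroup subs f ∨ Coll f := by
  rcases S.descend V D sel subs hr hs hH hD hq hc with ⟨r, hr', h⟩ | h
  · rw [hfix, List.mem_singleton] at hr'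
    subst hr'
    exact Or.inl (by simpa using h [] (by simp) rfl)
  · exact Or.inr (S.coll_of_mem hl hxy (h x hx))

theorem Sys.central_E6 (S : Sys f) {q : Q}
    (hq : q ∈ lettersGroup [Gen.a, .b1, .c1, .b2, .c2, .b3] f)
    (hc : ∀ x ∈ [Gen.a, .b1, .c1, .b2, .c2, .b3], Commute q (f x)) : q = 1 ∨ Coll f := by
  simp only [List.forall_mem_cons, List.not_mem_nil, IsEmpty.forall_iff, implies_true, and_true]
    at hc
  obtain ⟨ha, hb1, hc1, hb2, hc2, hb3⟩ := hc
  rcases S.descend_zero E6.valid subE6 [.a, .b1, .c1, .b2, .c2, .b3] [.a, .b1, .c1, .b2, .b3]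
      (by decide +kernel) (by decide +kernel) (by decide +kernel) (by decide +kernel) rfl
      (x := .c2) (y := .d2) (by decide) (by decide) (by decide) hq
      (by simp [ha, hb1, hc1, hb2, hb3]) with hq | h
  swap; · exact Or.inr h
  rcases S.descend_zero D5.valid subD5 [.a, .b1, .c1, .b2, .b3] [.c1, .b1, .a, .b2]
      (by decide +kernel) (by decide +kernel) (by decide +kernel) (by decide +kernel) rfl
      (x := .b3) (y := .c3) (by decide) (by decide) (by decide) hq
      (by simp [ha, hb1, hc1, hb2]) with hq | h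
  swap; · exact Or.inr h
  rcases S.descend_zero A4.valid subA4 [.c1, .b1, .a, .b2] [.c1, .b1, .a]
      (by decide +kernel) (by decide +kernel) (by decide +kernel) (by decide +kernel) rfl
      (x := .b2) (y := .c2) (by decide) (by decide) (by decide) hq
      (by simp [ha, hb1, hc1]) with hq | h
  swap; · exact Or.inr h
  rcases S.descend_zero A3.valid subA3 [.c1, .b1, .a] [.b1, .a]
      (by decide +kernel) (by decide +kernel) (by decide +kernel) (by decide +kernel) rfl
      (x := .c1) (y := .d1) (by decide) (by decide) (by decide) hq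
      (by simp [ha, hb1]) with hq | h
  swap; · exact Or.inr h
  rcases S.descend_zero A2.valid subA2 [.b1, .a] [.a]
      (by decide +kernel) (by decide +kernel) (by decide +kernel) (by decide +kernel) rfl
      (x := .b1) (y := .c1) (by decide) (by decide) (by decide) hq
      (by simp [ha]) with hq | h
  swap; · exact Or.inr h
  have key : q = 1 ∨ q = f .a := by
    refine Subgroup.closure_induction (p := fun q _ => q = 1 ∨ q = f .a) ?_ (Or.inl rfl) ?_ ?_ hq
    · rintro _ ⟨x, hx, rfl⟩
      exact Or.inr (by rw [List.mem_singleton.1 hx])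
    · rintro u w _ _ (rfl | rfl) (rfl | rfl) <;> simp [S.sq]
    · rintro u _ (rfl | rfl)
      · simp
      · exact Or.inr (inv_eq_of_mul_eq_one_left (S.sq _))
  rcases key with rfl | rfl
  · exact Or.inl rfl
  · exact Or.inr (S.coll_of_comm (x := .a) (y := .b1) (by decide) hb1)

/-- the letters of Y322 -/
def Y322 : List Gen := [.a, .b1, .c1, .b2, .c2, .b3, .c3, .d1]

theorem subE7_fixed : subE7.fixed = [0, 55] := rfl

theorem z_E7 : E7.cert.app ((List.replicate 9 [0, 1, 3, 5, 2, 4, 6]).flatten) 0 = 55 := by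
  decide +kernel

theorem z_E7_word : (((List.replicate 9 [0, 1, 3, 5, 2, 4, 6]).flatten).map fun x =>
    [Gen.a, Gen.b1, .c1, .b2, .c2, .b3, .d1].getD x .a) = z9.map ι := by decide +kernel

theorem Sys.central322 (S : Sys f) {q : Q} (hq : q ∈ lettersGroup Y322 f)
    (hc : ∀ x ∈ Y322, Commute q (f x)) : q = 1 ∨ q = zval f ∨ Coll f := by
  rcases S.descend_zero T2.valid subT2 Y322 [.a, .b1, .c1, .b2, .c2, .b3, .d1]
      (by decide +kernel) (by decide +kernel) (by decide +kernel) (by decide +kernel) rfl
      (x := .c3) (y := .d3) (by decide) (by decide) (by decide) hq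
      (fun x hx => hc x (by revert hx; simp [Y322]; tauto)) with hq | h
  swap; · exact Or.inr (Or.inr h)
  rcases S.descend E7.valid subE7 [.a, .b1, .c1, .b2, .c2, .b3, .d1] [.a, .b1, .c1, .b2, .c2, .b3]
      (by decide +kernel) (by decide +kernel) (by decide +kernel) (by decide +kernel) hq
      (fun x hx => hc x (by revert hx; simp [Y322]; tauto)) with ⟨r, hr, h⟩ | h
  · rw [subE7_fixed] at hr
    simp only [List.mem_cons, List.not_mem_nil, or_false] at hr
    rcases hr with rfl | rfl
    · rcases S.central_E6 (by simpa using h [] (by simp) rfl)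
        (fun x hx => hc x (by revert hx; simp [Y322]; tauto)) with h1 | h1
      exacts [Or.inl h1, Or.inr (Or.inr h1)]
    · have h' := h _ (by decide +kernel) z_E7
      rw [z_E7_word, ← zval] at h'
      rcases S.central_E6 h' (fun x hx => (hc x (by revert hx; simp [Y322]; tauto)).mul_left
        (S.zval_comm x (by rintro rfl; revert hx; decide)).inv_left) with h1 | h1
      exacts [Or.inr (Or.inl (mul_inv_eq_one.1 h1)), Or.inr (Or.inr h1)]
  · exact Or.inr (Or.inr (S.coll_of_mem (x := .d1) (y := .e1) (by decide) (by decide)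
      (h .d1 (by decide))))

/-- the letters of Y332 -/
def Y332 : List Gen := Y322 ++ [.d2]

theorem subT5_fixed : subT5.fixed = [0, 4386] := rfl

theorem z2_T5 : T5.cert.app ((List.replicate 9 [0, 3, 1, 5, 4, 2, 8]).flatten) 0 = 4386 := by
  decide +kernel

theorem z2_T5_word : (((List.replicate 9 [0, 3, 1, 5, 4, 2, 8]).flatten).map fun x =>
    Y332.getD x .a) = (z9.map ι).map sw12 := by decide +kernel

theorem Sys.central332 (S : Sys f) {q : Q} (hq : q ∈ lettersGroup Y332 f)
    (hc : ∀ x ∈ Y332, Commute q (f x)) :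
    q = 1 ∨ q = zval f ∨ q = zval (f ∘ sw12) ∨ q = zval f * zval (f ∘ sw12) ∨ Coll f := by
  rcases S.descend T5.valid subT5 Y332 Y322
      (by decide +kernel) (by decide +kernel) (by decide +kernel) (by decide +kernel) hq
      (fun x hx => hc x (List.mem_append_left _ hx)) with ⟨r, hr, h⟩ | h
  · rw [subT5_fixed] at hr
    simp only [List.mem_cons, List.not_mem_nil, or_false] at hr
    rcases hr with rfl | rfl
    · rcases S.central322 (by simpa using h [] (by simp) rfl)
        (fun x hx => hc x (List.mem_append_left _ hx)) with h1 | h1 | h1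
      exacts [Or.inl h1, Or.inr (Or.inl h1), Or.inr (Or.inr (Or.inr (Or.inr h1)))]
    · have h' := h _ (by decide +kernel) z2_T5
      have e : (((z9.map ι).map sw12).map f).prod = zval (f ∘ sw12) := by
        rw [zval, List.map_map]
      rw [z2_T5_word, e] at h'
      rcases S.central322 h' (fun x hx => (hc x (List.mem_append_left _ hx)).mul_left
        (by
          have := S.comp_sw12.zval_comm (sw12 x) (by
            intro e'; have := congrArg sw12 e'; rw [sw12_sw12] at this; subst this
            revert hx; decide)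
          rw [Function.comp_apply, sw12_sw12] at this
          exact this.inv_left)) with h1 | h1 | h1
      · exact Or.inr (Or.inr (Or.inl (mul_inv_eq_one.1 h1)))
      · exact Or.inr (Or.inr (Or.inr (Or.inl (mul_inv_eq_iff_eq_mul.1 h1))))
      · exact Or.inr (Or.inr (Or.inr (Or.inr h1)))
  · exact Or.inr (Or.inr (Or.inr (Or.inr (S.coll_of_mem (x := .d2) (y := .e2) (by decide)
      (by decide) (h .d2 (by decide))))))

theorem coll_of_comp {π : Gen → Gen} (hπ : ∀ x, π (π x) = x) (h : Coll (f ∘ π)) : Coll f :=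
  fun x y => by simpa [Function.comp, hπ] using h (π x) (π y)

/-- the letters of Y432 used in the table -/
def Y432 : List Gen := [.a, .b1, .c1, .b2, .c2, .b3, .c3, .d1, .e1, .d2]

theorem c_T4 : T4.cert.walk 524288 ((c9.map idx)) 0 = some 0 := by decide +kernel

theorem c_T4_word : ((c9.map idx).map fun x => Y432.getD x .a) = c9.map ι := by decide +kernel

theorem Sys.cval_mem (S : Sys f) : cval f ∈ lettersGroup Y332 f := by
  have h := word_mem (sel := Y432) (subs := Y332.map fun x => [x]) (d := Gen.a) T4.valid S.sq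
    S.known (by decide +kernel) (by decide +kernel) (c9.map idx) (by decide +kernel) _ c_T4
  rwa [wordsGroup_singletons, c_T4_word] at h

theorem Sys.cval_set (S : Sys f) :
    cval f = 1 ∨ cval f = zval f ∨ cval f = zval (f ∘ sw12) ∨
      cval f = zval f * zval (f ∘ sw12) ∨ Coll f :=
  S.central332 S.cval_mem fun x hx => S.cval_comm x (by rintro rfl; revert hx; decide)

theorem Sys.coll_of_zcomm (S : Sys f) (h : Commute (zval f) (f .e1)) : Coll f := by
  have he : cval f = zval f * f .e1 := by
    rw [cval_eq, h.mul_pow, pow_succ (zval f), pow_succ (f .e1), pow_two, pow_two, S.zval_sq,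
      S.sq, one_mul, one_mul]
  refine S.coll_of_comm (x := .e1) (y := .d1) (by decide) ?_
  have e : f .e1 = (zval f)⁻¹ * cval f := by rw [he]; group
  rw [e]
  exact (S.zval_comm .d1 (by decide)).inv_left.mul_left (S.cval_comm .d1 (by decide))

end CfsgLib.Spor.Y555
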