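import Cfsg.Agent.Lib.PresCert.Check

/-!
Coset table certificate (generated data).
-/

namespace CfsgLib.Spor.Y555.E6

open CfsgLib.PresCert

noncomputable def tab : BTree := (.node (.node (.node (.leaf 0x100011800070010084000c80005000000000110000700080e4000b8000400080c4000b000040000000000e800060000010000a000030010004000a800040000000000c000050008064000980003000804400090000300080240008800030000000000a00004000001000080000200081a400078000200081840007000020000010000580001001012400068000200100c4000600002000000000080000300081c400050000100000100003000000000000000580002001014400048000100100e40004000010010064000380001000008800028000000000000003000010000068000200000000004800018000000000280001000000000008000080000) (.leaf 0x8124003e0001a0000010003c8001900100a4003d8001a0010024003d0001a0008104003c0001900080e4003b8001900080c4003b000190000000003c8001a0000010003a000180010004003a8001900080840039800180008064003900018000804400388001800080240038000180000000003a000190000010003780017000001000350001500101c400370001700101a4003680016001016400360001700101040035800170000000003780018000001000328001300101c400348001400000100036800170010164003400016001010400338001600100840033000160000000003500017000818400320001500000100030000130010124003180015)) (.node (.leaf 0x81a400240000f0000000002900012000001000228000c001012400238000f00100c400230000d000000000270001100081c400220000e000001000200000b001018400218000e000001000258001000100e400210000e001006400208000e00081a4001f8000d00000000024800100000010001e0000a0010124001f0000b000001000230000f0010044001e8000d0008104001d8000c00080e4001d0000c000000000228000f00080a4001c8000c0000010001b8000a0010004001c0000c00081a4001b0000b000000000200000e00000100019800090000010001f0000d00100c4001a8000b0010044001a0000b000808400190000a000806400188000a)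 (.leaf 0x0))) (.node (.node (.leaf 0x1e0000d00080240018000090000000001b8000c000001000178000800080840017000090008064001680009000000000198000b000001000180000a00080040016000090000010001580007000001000130000600101c400150000800101a400148000800101640014000070010104001380008000000000178000a000001000110000400101c400128000700101a40012000070000010001400008001010400118000500000000015800090000000001300008000814400108000600081240010000060000010000e8000400100a4000f800060010024000f000060000010000c0000300101c4000e0000500101a4000d800050010164000d00005) (.leaf 0x8164003f0001a0008144003e8001a)) (.node (.leaf 0x100c400310001500100440030800150000010002d80011000001000348001600101a4002f800140010164002f000140010104002e800140010084002e0001400000000032800160000010002b8001100000000030000150010144002d0001300100e4002c800130010064002c0001200081c4002b00012000001000290000f0010184002a800120010144002a0001200100e40029800100000010002c000130000000002d800140000000002b80013000804400288001100080240028000110008004002780011000001000270000f00081c4002680010000001000248000d0010184002600010001014400258000e00000100029800120010064002500010) (.leaf 0x0))))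

noncomputable def par : BTree := (.leaf 0x2000190000000000100018000000000000001700000000005000150000000000500013000000000030001300000000005000110000000000400011000000000040000f000000000000000f000000000040000d000000000030000c000000000040000b000000000030000a000000000010000a000000000030000900000000000000080000000000000007000000000050000600000000005000040000000000200004000000000050000300000000001000030000000000000002000000000030000100000000004000000000000000000000)

noncomputable def fact : BTree := (.leaf 0x0)

/-- the certificate -/
noncomputable def cert : Cert where
  n := 27
  v := 0
  g := 6
  inv := [0, 1, 2, 3, 4, 5]
  rels := [[0, 1, 0, 1, 0, 1], [0, 2, 0, 2], [0, 3, 0, 3, 0, 3], [0, 4, 0, 4], [0, 5, 0, 5, 0, 5], [1, 2, 1, 2, 1, 2], [1, 3, 1, 3], [1, 4, 1, 4], [1, 5, 1, 5], [2, 3, 2, 3], [2, 4, 2, 4], [2, 5, 2, 5], [3, 4, 3, 4, 3, 4], [3, 5, 3, 5], [4, 5, 4, 5]]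
  subs := [[0], [1], [2], [3], [5]]
  tab := tab
  par := par
  fact := fact
  nfact := 0

/-- justifications -/
noncomputable def justs : List Cert.Just := []

end CfsgLib.Spor.Y555.E6
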