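import Cfsg.Agent.Lib.Spor.Y555.Main

/-!
The six arm relations in the group presented by the Coxeter relations and the spider relation.
-/

namespace CfsgLib.Spor.Y555

open CfsgLib.PresCert Cfsg.Spor Cfsg.Spor.Bimonster

/-- the spider as a free word -/
def spiderR : List (FreeGroup Gen) := [(a * b1 * c1 * a * b2 * c2 * a * b3 * c3) ^ 10]

/-- the generators of the presented group -/
abbrev g16 : Gen → PresentedGroup (coxRelators edges ∪ {r | r ∈ spiderR}) := pgen edges spiderR

theorem wordsFor16 : WordsFor spiderR [spiderW] := by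
  intro Q _ f _
  simp [spiderR, spiderW, spider9, ι, a, b1, c1, b2, c2, b3, c3, pow_succ, List.replicate_succ,
    mul_assoc]

theorem sys16 : Sys g16 where
  cox x y := pgen_cox (mem_nodes x) (mem_nodes y)
  spider := pgen_known mem_nodes wordsFor16 spiderW
    (List.mem_append_right _ (List.mem_singleton_self _))

theorem lift_z {f : Gen → PresentedGroup (coxRelators edges ∪ {r | r ∈ spiderR})} :
    zval f = (f .a * f .b1 * f .b2 * f .b3 * f .c1 * f .c2 * f .d1) ^ 9 := by
  simp [zval, z9, ι, pow_succ, List.replicate_succ, mul_assoc]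

theorem mul_inv_arm {f : Gen → PresentedGroup (coxRelators edges ∪ {r | r ∈ spiderR})} (S : Sys f) :
    f .f1 * ((f .a * f .b1 * f .b2 * f .b3 * f .c1 * f .c2 * f .d1) ^ 9)⁻¹ = 1 := by
  rw [← lift_z, S.f1_eq, mul_inv_cancel]

theorem extra_eq_one : ∀ r ∈ Bimonster.extra,
    (PresentedGroup.mk (coxRelators edges ∪ {r' | r' ∈ spiderR}) r) = 1 := by
  intro r hr
  have h0 := PresentedGroup.one_of_mem (rels := coxRelators edges ∪ {r' | r' ∈ spiderR})
    (x := (a * b1 * c1 * a * b2 * c2 * a * b3 * c3) ^ 10) (Or.inr (List.mem_singleton_self _))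
  have h1 := mul_inv_arm sys16
  have h2 := mul_inv_arm sys16.comp_sw23
  have h3 := mul_inv_arm sys16.comp_sw12
  have h4 := mul_inv_arm sys16.comp_cyc
  have h5 := mul_inv_arm sys16.comp_cyc.comp_cyc
  have h6 := mul_inv_arm sys16.comp_cyc.comp_cyc.comp_sw23
  simp only [Function.comp_apply, cyc, sw23, sw12] at h2 h3 h4 h5 h6
  simp only [Bimonster.extra, List.mem_cons, List.not_mem_nil, or_false] at hr
  rw [← lift_pgen (edges := edges) (extra := spiderR)] at h0 ⊢
  rcases hr with rfl | rfl | rfl | rfl | rfl | rfl | rfl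
  · exact h0
  all_goals
    simp only [map_mul, map_inv, map_pow, FreeGroup.lift_apply_of]
    first | exact h1 | exact h2 | exact h3 | exact h4 | exact h5 | exact h6

end CfsgLib.Spor.Y555
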