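import Cfsg.Agent.Lib.Spor.Y555.Order
import Cfsg.Agent.Lib.Spor.Y555.ZTable

/-!
Identities in Y422 with the spider relation and their images in Y555 with the spider relation.
-/

namespace CfsgLib.Spor.Y555

open CfsgLib.PresCert Cfsg.Spor Cfsg.Spor.Bimonster

variable {Q : Type*} [Group Q] {f : Gen → Q}

/-- the natural homomorphism from Y422 -/
noncomputable def Sys.hom (S : Sys f) : P9 →* Q :=
  PresentedGroup.toGroup (f := fun x => f (ι x)) (by
    rintro r (⟨x, hx, y, hy, rfl⟩ | hr)
    · have := S.known9 (pairWord edges9 x y)
        (List.mem_append_left _ (List.mem_flatMap.2 ⟨x, hx, List.mem_map.2 ⟨y, hy, rfl⟩⟩))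
      rw [pairWord, prod_map_replicate_pair] at this
      simpa using this
    · rw [List.mem_singleton.1 hr]
      have := S.known9 spider9 (List.mem_append_right _ (List.mem_singleton_self _))
      simpa [spider9, pow_succ, List.replicate_succ, mul_assoc] using this)

theorem Sys.hom_word (S : Sys f) {w : List G9} (h : (w.map g9).prod = 1) :
    ((w.map ι).map f).prod = 1 := by
  have e := congrArg S.hom h
  rw [map_one, map_list_prod, List.map_map] at e
  rw [List.map_map]
  refine Eq.trans (congrArg List.prod (List.map_congr_left fun x _ => ?_)) e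
  simp [Sys.hom, g9, pgen]

set_option maxHeartbeats 0 in
theorem id_spider : ((spiderW.map sw23) == (spider9.map fun x => match x with
      | G9.b2 => G9.b3 | G9.c2 => G9.c3 | G9.b3 => G9.b2 | G9.c3 => G9.c2 | y => y).map ι) = true ∧
    perm.okId ((spider9.map fun x => match x with
      | G9.b2 => G9.b3 | G9.c2 => G9.c3 | G9.b3 => G9.b2 | G9.c3 => G9.c2 | y => y).map idx).reverse
      = true := by decide +kernel

/-- the end-node word, read backwards, as numbers -/
def zR : List Nat := (z9.map idx).reverse

set_option maxHeartbeats 0 in
theorem zT_ok : (allBelow perm.n fun i =>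
    Nat.beq (perm.app zR i) (zT.half i) && Nat.blt (zT.half i) perm.n) = true := by decide +kernel

/-- apply a word in the generators and the end-node word -/
noncomputable def app2 : List (Option Nat) → Nat → Nat
  | [], i => i
  | some k :: w, i => app2 w (perm.img k i)
  | none :: w, i => app2 w (zT.half i)

/-- expand a word in the generators and the end-node word -/
def expand : List (Option Nat) → List Nat
  | [] => []
  | some k :: w => k :: expand w
  | none :: w => zR ++ expand w

theorem app_append (u v : List Nat) (i : Nat) :
    perm.app (u ++ v) i = perm.app v (perm.app u i) := by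
  induction u generalizing i with
  | nil => rfl
  | cons k u ih => exact ih _

theorem app2_eq : ∀ (w : List (Option Nat)) (i : Nat), i < perm.n →
    (∀ k, some k ∈ w → k < perm.g) → app2 w i = perm.app (expand w) i
  | [], _, _, _ => rfl
  | some k :: w, i, hi, hw => app2_eq w _
      (PermData.okInvol_spec invol_ok (hw k (List.mem_cons_self ..)) ⟨i, hi⟩).1
      fun k' h => hw k' (List.mem_cons_of_mem _ h)
  | none :: w, i, hi, hw => by
    have h := allBelow_spec zT_ok i hi
    rw [Bool.and_eq_true] at h
    show app2 w (zT.half i) = perm.app (zR ++ expand w) i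
    rw [app_append, Nat.eq_of_beq_eq_true h.1]
    exact app2_eq w _ (Nat.le_of_ble_eq_true h.2) fun k' h => hw k' (List.mem_cons_of_mem _ h)

/-- the mixed word moves no point -/
noncomputable def okId2 (w : List (Option Nat)) : Bool :=
  (w.all fun o => match o with | some k => Nat.blt k perm.g | none => true) &&
    allBelow perm.n fun i => Nat.beq (app2 w i) i

theorem ident9_mixed {w : List G9} {m : List (Option Nat)} (he : expand m = (w.map idx).reverse)
    (h : okId2 m = true) : (w.map g9).prod = 1 := by
  rw [okId2, Bool.and_eq_true] at h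
  refine ident9_pts fun i hi => ?_
  rw [← he, ← app2_eq m i hi fun k hk => Nat.le_of_ble_eq_true (List.all_eq_true.1 h.1 _ hk)]
  exact Nat.eq_of_beq_eq_true (allBelow_spec h.2 i hi)

/-- the cube word in mixed letters -/
def cR : List (Option Nat) := (List.replicate 3 [some 8, none]).flatten

theorem id_mixed : expand [none, none] = ((z9 ++ z9).map idx).reverse ∧
    expand (cR ++ cR) = ((c9 ++ c9).map idx).reverse ∧
    (all9.all fun x => (expand [some (idx x), none, some (idx x), none] ==
        ((z9 ++ [x] ++ z9 ++ [x]).map idx).reverse) &&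
      (expand (some (idx x) :: cR ++ some (idx x) :: cR) ==
        ((c9 ++ [x] ++ c9 ++ [x]).map idx).reverse)) = true := by
  decide +kernel

set_option maxHeartbeats 0 in
theorem id_zz2 : okId2 [none, none] = true := by decide +kernel

set_option maxHeartbeats 0 in
theorem id_cc2 : okId2 (cR ++ cR) = true := by decide +kernel

/-- the letters of Y322 -/
def y322 : List G9 := [.a, .b1, .c1, .b2, .c2, .b3, .c3, .d1]

set_option maxHeartbeats 0 in
theorem id_zcomm : (y322.all fun x => okId2 [some (idx x), none, some (idx x), none]) = true := by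
  decide +kernel

set_option maxHeartbeats 0 in
theorem id_ccomm : (all9.all fun x => okId2 (some (idx x) :: cR ++ some (idx x) :: cR)) = true := by
  decide +kernel

set_option maxHeartbeats 0 in
theorem id_zz' : perm.okId ((z9 ++ z9'.reverse).map idx).reverse = true := by decide +kernel

theorem Sys.comp_sw23 (S : Sys f) : Sys (f ∘ sw23) := by
  refine S.comp sw23 (by decide +kernel) ?_
  rw [eq_of_beq id_spider.1]
  exact S.hom_word (ident9 id_spider.2)

theorem Sys.comp_sw12 (S : Sys f) : Sys (f ∘ sw12) := S.comp_cyc.comp_sw23

/-- the proposed value of the end node of the first arm -/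
def zval (f : Gen → Q) : Q := ((z9.map ι).map f).prod

/-- the cube of its product with the next node -/
def cval (f : Gen → Q) : Q := ((c9.map ι).map f).prod

theorem cval_eq : cval f = (zval f * f .e1) ^ 3 := by
  simp [cval, c9, zval, List.map_flatten, List.map_replicate, pow_succ, List.replicate_succ,
    mul_assoc, ι]

theorem Sys.zval_sq (S : Sys f) : zval f * zval f = 1 := by
  have h := S.hom_word (ident9_mixed id_mixed.1 id_zz2)
  rwa [List.map_append, List.map_append, List.prod_append] at h

theorem Sys.zval_eq (S : Sys f) : zval f = ((z9'.map ι).map f).prod := by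
  have h := S.hom_word (ident9 id_zz')
  rw [List.map_append, List.map_append, List.prod_append, List.map_reverse,
    prod_reverse_of_invol f S.sq, ← zval] at h
  simpa using mul_inv_eq_one.1 h

theorem Sys.comm_of_id (S : Sys f) {w : List G9} {x : G9}
    (hw : ((w ++ w).map g9).prod = 1) (h : ((w ++ [x] ++ w ++ [x]).map g9).prod = 1) :
    Commute ((w.map ι).map f).prod (f (ι x)) := by
  have e := S.hom_word h
  have e0 := S.hom_word hw
  simp only [List.map_append, List.prod_append, List.map_cons, List.map_nil, List.prod_cons,
    List.prod_nil, mul_one] at e e0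
  show _ * _ = _ * _
  rw [mul_assoc _ _ (f (ι x))] at e
  have h1 := eq_inv_of_mul_eq_one_left e
  rw [mul_inv_rev, inv_eq_of_mul_eq_one_left (S.sq (ι x)), inv_eq_of_mul_eq_one_left e0] at h1
  exact h1

theorem Sys.comm_word (S : Sys f) (w : List Gen) (x : Gen)
    (h : (w.all fun y => Nat.beq (coxLabel edges y x) 2) = true) :
    Commute (w.map f).prod (f x) := by
  refine Commute.list_prod_left _ _ fun q hq => ?_
  obtain ⟨y, hy, rfl⟩ := List.mem_map.1 hq
  exact S.comm (Nat.eq_of_beq_eq_true (List.all_eq_true.1 h y hy))

theorem zcomm_cases : (all16.all fun x => x == Gen.e1 || (y322.map ι).contains x ||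
    ((z9.map ι).all fun y => Nat.beq (coxLabel edges y x) 2) ||
    ((z9'.map ι).all fun y => Nat.beq (coxLabel edges y x) 2)) = true := by decide +kernel

/-- the proposed end-node value commutes with all generators but one -/
theorem Sys.zval_comm (S : Sys f) (x : Gen) (hx : x ≠ .e1) : Commute (zval f) (f x) := by
  have h := List.all_eq_true.1 zcomm_cases x (mem_all16 x)
  simp only [Bool.or_eq_true, beq_iff_eq, hx, false_or, List.contains_iff_mem] at h
  rcases h with (h | h) | h
  · obtain ⟨y, hy, rfl⟩ := List.mem_map.1 h
    exact S.comm_of_id (ident9_mixed id_mixed.1 id_zz2) (ident9_mixed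
      (eq_of_beq (Bool.and_eq_true_iff.1 (List.all_eq_true.1 id_mixed.2.2 y (mem_all9 y))).1)
      (List.all_eq_true.1 id_zcomm y hy))
  · exact S.comm_word _ x h
  · rw [S.zval_eq]
    exact S.comm_word _ x h

theorem Sys.cval_comm9 (S : Sys f) (x : G9) : Commute (cval f) (f (ι x)) :=
  S.comm_of_id (ident9_mixed id_mixed.2.1 id_cc2) (ident9_mixed
    (eq_of_beq (Bool.and_eq_true_iff.1 (List.all_eq_true.1 id_mixed.2.2 x (mem_all9 x))).2)
    (List.all_eq_true.1 id_ccomm x (mem_all9 x)))

/-- the cube commutes with every generator whose label with the next node is 2 -/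
theorem Sys.cval_comm (S : Sys f) (x : Gen) (hx : x ≠ .f1) : Commute (cval f) (f x) := by
  by_cases h : (all9.map ι).contains x = true
  · obtain ⟨y, -, rfl⟩ := List.mem_map.1 (List.contains_iff_mem.1 h)
    exact S.cval_comm9 y
  · have he : x ≠ .e1 := fun e => h (by rw [e]; decide)
    rw [cval_eq]
    refine Commute.pow_left ((S.zval_comm x he).mul_left (S.comm ?_)) 3
    cases x <;> first | decide | exact absurd rfl hx | exact absurd (by decide) h

end CfsgLib.Spor.Y555
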