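import Cfsg.Agent.Lib.Spor.Y555.T1bData

/-!
Checking slots of the certificate.
-/

namespace CfsgLib.Spor.Y555.T1b

open CfsgLib.PresCert

theorem slots_8 : cert.okRange 4096 512 = true := by decide +kernel

theorem slots_9 : cert.okRange 4608 512 = true := by decide +kernel

theorem slots_10 : cert.okRange 5120 512 = true := by decide +kernel

theorem slots_11 : cert.okRange 5632 512 = true := by decide +kernel

theorem slots_12 : cert.okRange 6144 417 = true := by decide +kernel


end CfsgLib.Spor.Y555.T1b
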