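import Cfsg.Agent.Lib.Spor.Y555.Descents
import Cfsg.Agent.Lib.Spor.Y555.T1bCert

/-!
The spider relation implies that each end node of Y555 equals the ninth power of a Coxeter element
of a sub-diagram of type E7.
-/

namespace CfsgLib.Spor.Y555

open CfsgLib.PresCert Cfsg.Spor Cfsg.Spor.Bimonster

variable {Q : Type*} [Group Q] {f : Gen → Q}

theorem Sys.cval_one (S : Sys f) : cval f = 1 ∨ Coll f := by
  have hc : Commute (cval f) (f .e1) := S.cval_comm .e1 (by decide)
  have hz2 : Commute (zval (f ∘ sw12)) (f .e1) := S.comp_sw12.zval_comm .e2 (by decide)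
  rcases S.cval_set with h | h | h | h | h
  · exact Or.inl h
  · exact Or.inr (S.coll_of_zcomm (h ▸ hc))
  · refine Or.inr (coll_of_comp sw12_sw12 (S.comp_sw12.coll_of_zcomm ?_))
    show Commute (zval (f ∘ sw12)) (f .e2)
    exact h ▸ S.cval_comm .e2 (by decide)
  · refine Or.inr (S.coll_of_zcomm ?_)
    have e : zval f = cval f * (zval (f ∘ sw12))⁻¹ := by rw [h]; group
    rw [e]
    exact hc.mul_left hz2.inv_left
  · exact Or.inr h

/-- the letters of Y422 -/
def Y422 : List Gen := Y322 ++ [.e1]

/-- the letters of Y522 -/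
def Y522 : List Gen := Y422 ++ [.f1]

/-- a word in the letters of Y422 -/
def wT1b : List Nat :=
  [8, 7, 2, 1, 0, 3, 4, 5, 0, 1, 2, 3, 0, 1, 6, 5, 0, 1, 2, 3, 0, 1, 5, 0, 7, 2, 1, 0, 3, 5, 0, 8,
    7, 2, 1, 0, 3, 4, 5, 0, 3, 6, 5, 0, 1, 2, 7, 8]

theorem f1_T1b : T1b.cert.walk 524288 ([9] ++ c9.map idx ++ [9] ++ wT1b ++ [9]) 0 = some 0 := by
  decide +kernel

theorem f1_T1b_word : ((([9] ++ c9.map idx ++ [9] ++ wT1b ++ [9]) : List Nat).map fun x =>
    Y522.getD x .a) = [Gen.f1] ++ c9.map ι ++ [.f1] ++ wT1b.map (fun x => Y422.getD x .a) ++ [.f1]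
      := by decide +kernel

theorem Sys.f1_mem (S : Sys f) (hc : cval f = 1) : f .f1 ∈ lettersGroup Y422 f := by
  have h := word_mem (sel := Y522) (subs := Y422.map fun x => [x]) (d := Gen.a) T1b.valid S.sq
    S.known (by decide +kernel) (by decide +kernel) ([9] ++ c9.map idx ++ [9] ++ wT1b ++ [9])
    (by decide +kernel) _ f1_T1b
  rw [wordsGroup_singletons, f1_T1b_word] at h
  simp only [List.map_append, List.prod_append, List.map_cons, List.map_nil, List.prod_cons,
    List.prod_nil, mul_one] at h
  rw [← cval, hc, mul_one, S.sq, one_mul] at h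
  have hw : ((wT1b.map fun x => Y422.getD x .a).map f).prod ∈ lettersGroup Y422 f := by
    refine list_prod_mem fun q hq => ?_
    obtain ⟨y, hy, rfl⟩ := List.mem_map.1 hq
    obtain ⟨x, hx, rfl⟩ := List.mem_map.1 hy
    refine Subgroup.subset_closure ⟨_, ?_, rfl⟩
    have hall : (wT1b.all fun x => Y422.contains (Y422.getD x .a)) = true := by decide +kernel
    exact List.contains_iff_mem.1 (List.all_eq_true.1 hall x hx)
  exact (Subgroup.mul_mem_cancel_left _ hw).1 h

theorem subT1a_fixed : subT1a.fixed = [0, 2159] := rfl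

theorem c_T1a : T1a.cert.app (c9.map idx) 0 = 2159 := by decide +kernel

theorem c_T1a_word : ((c9.map idx).map fun x => Y422.getD x .a) = c9.map ι := by decide +kernel

/-- the end node of the first arm is the ninth power of the Coxeter element -/
theorem Sys.f1_eq (S : Sys f) : f .f1 = zval f := by
  have hcoll : Coll f → f .f1 = zval f := fun h => by
    have e : (z9.map ι).map f = List.replicate 63 (f .f1) := List.eq_replicate_iff.2
      ⟨by rw [List.length_map, List.length_map]; decide, fun q hq => by
        obtain ⟨x, -, rfl⟩ := List.mem_map.1 hq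
        exact h x .f1⟩
    have hsq : f .f1 ^ 2 = 1 := by rw [pow_two, S.sq]
    rw [zval, e, List.prod_replicate, show 63 = 2 * 31 + 1 from rfl, pow_succ, pow_mul, hsq, one_pow,
      one_mul]
  rcases S.cval_one with hc | hc
  swap; · exact hcoll hc
  have hcomm : ∀ x ∈ Y322, Commute (f .f1) (f x) := fun x hx =>
    S.comm (by revert x; decide)
  rcases S.descend T1a.valid subT1a Y422 Y322
      (by decide +kernel) (by decide +kernel) (by decide +kernel) (by decide +kernel)
      (S.f1_mem hc) hcomm with ⟨r, hr, h⟩ | h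
  · have hf : f .f1 ∈ lettersGroup Y322 f := by
      rw [subT1a_fixed] at hr
      simp only [List.mem_cons, List.not_mem_nil, or_false] at hr
      rcases hr with rfl | rfl
      · simpa using h [] (by simp) rfl
      · have h' := h _ (by decide +kernel) c_T1a
        rw [c_T1a_word, ← cval, hc, inv_one, mul_one] at h'
        exact h'
    rcases S.central322 hf hcomm with h1 | h1 | h1
    · refine hcoll (S.coll_of_comm (x := .f1) (y := .e1) (by decide) ?_)
      rw [h1]
      exact Commute.one_left _
    · exact h1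
    · exact hcoll h1
  · exact hcoll (S.coll_of_comm (x := .f1) (y := .e1) (by decide)
      (commute_of_closure hcomm (h .e1 (by decide))))

end CfsgLib.Spor.Y555
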