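import Cfsg.Agent.Lib.Spor.Y555.Words
import Cfsg.Agent.Lib.Spor.Y555.PermData
import Cfsg.Agent.Lib.Spor.Y555.T1aCert
import Cfsg.Agent.Lib.Spor.Y555.T2Cert
import Cfsg.Agent.Lib.Spor.Y555.E7Cert
import Cfsg.Agent.Lib.Spor.Y555.E6Cert
import Cfsg.Agent.Lib.Spor.Y555.D5Cert
import Cfsg.Agent.Lib.Spor.Y555.A4Cert
import Cfsg.Agent.Lib.Spor.Y555.A3Cert
import Cfsg.Agent.Lib.Spor.Y555.A2Cert

/-!
The group of the diagram Y422 with the spider relation acts faithfully on 2160 cosets, so word
identities in it can be tested on these points.
-/

set_option Elab.async false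
set_option maxRecDepth 100000

namespace CfsgLib.Spor.Y555

open CfsgLib.PresCert Cfsg.Spor

/-- the presented group of Y422 with the spider relation -/
abbrev P9 : Type := PresentedGroup (coxRelators edges9 ∪ {r | r ∈ extra9})

/-- its generators -/
abbrev g9 : G9 → P9 := pgen edges9 extra9

theorem g9_known : ∀ w ∈ known9, (w.map g9).prod = 1 := pgen_known mem_nodes9 wordsFor9

theorem g9_sq (x : G9) : g9 x * g9 x = 1 := pgen_sq mem_nodes9 x

theorem step9 {C : Cert} {js : List Cert.Just} (V : Cert.Valid C js) (sel sub : List G9)
    {b : ℕ} (hsub : ∀ x ∈ sub, x ∈ sel)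
    (hr : okRels C sel known9 .a = true) (hs : okSubs C sel (sub.map fun x => [x]) .a = true)
    (hK : CardLE (lettersGroup sub g9) b) : CardLE (lettersGroup sel g9) (C.n * b) := by
  have h := index_bound V g9_sq g9_known hr hs
  rw [wordsGroup_singletons] at h
  refine hK.step (Subgroup.closure_mono ?_) h
  rintro _ ⟨x, hx, rfl⟩
  exact ⟨x, hsub x hx, rfl⟩

theorem card_a : CardLE (lettersGroup [G9.a] g9) 2 := by
  have e : lettersGroup [G9.a] g9 = Subgroup.zpowers (g9 .a) := by
    rw [lettersGroup, Subgroup.zpowers_eq_closure]
    congr 1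
    ext q
    simp [eq_comm]
  have h : orderOf (g9 .a) ∣ 2 := orderOf_dvd_of_pow_eq_one (by rw [pow_two, g9_sq])
  rw [e, CardLE, Nat.card_zpowers]
  exact ⟨fun h0 => by rw [h0] at h; simp at h, Nat.le_of_dvd (by norm_num) h⟩

theorem card_A2 : CardLE (lettersGroup [G9.b1, .a] g9) 6 :=
  step9 A2.valid [.b1, .a] [.a] (by simp) (by decide +kernel) (by decide +kernel) card_a

theorem card_A3 : CardLE (lettersGroup [G9.c1, .b1, .a] g9) 24 :=
  step9 A3.valid [.c1, .b1, .a] [.b1, .a] (by simp) (by decide +kernel) (by decide +kernel) card_A2

theorem card_A4 : CardLE (lettersGroup [G9.c1, .b1, .a, .b2] g9) 120 :=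
  step9 A4.valid [.c1, .b1, .a, .b2] [.c1, .b1, .a] (by simp) (by decide +kernel)
    (by decide +kernel) card_A3

theorem card_D5 : CardLE (lettersGroup [G9.a, .b1, .c1, .b2, .b3] g9) 1920 :=
  step9 D5.valid [.a, .b1, .c1, .b2, .b3] [.c1, .b1, .a, .b2] (by simp) (by decide +kernel)
    (by decide +kernel) card_A4

theorem card_E6 : CardLE (lettersGroup [G9.a, .b1, .c1, .b2, .c2, .b3] g9) 51840 :=
  step9 E6.valid [.a, .b1, .c1, .b2, .c2, .b3] [.a, .b1, .c1, .b2, .b3] (by simp)
    (by decide +kernel) (by decide +kernel) card_D5

theorem card_E7 : CardLE (lettersGroup [G9.a, .b1, .c1, .b2, .c2, .b3, .d1] g9) 2903040 :=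
  step9 E7.valid [.a, .b1, .c1, .b2, .c2, .b3, .d1] [.a, .b1, .c1, .b2, .c2, .b3] (by simp)
    (by decide +kernel) (by decide +kernel) card_E6

theorem card_Y322 : CardLE (lettersGroup [G9.a, .b1, .c1, .b2, .c2, .b3, .c3, .d1] g9)
    9170703360 :=
  step9 T2.valid [.a, .b1, .c1, .b2, .c2, .b3, .c3, .d1] [.a, .b1, .c1, .b2, .c2, .b3, .d1]
    (by simp) (by decide +kernel) (by decide +kernel) card_E7

theorem card_all_le : CardLE (⊤ : Subgroup P9) 19808719257600 :=
  top_eq_lettersGroup (edges := edges9) (extra := extra9) all9 mem_all9 ▸
    step9 T1a.valid all9 [.a, .b1, .c1, .b2, .c2, .b3, .c3, .d1] (fun x _ => mem_all9 x)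
      (by decide +kernel) (by decide +kernel) card_Y322

theorem finite : Finite P9 := by
  have h := card_all_le.1
  rw [Subgroup.card_top] at h
  exact Nat.finite_of_card_ne_zero h

theorem invol_ok : perm.okInvol = true := by decide +kernel

/-- consecutive pieces of the words are checked separately -/
theorem okWords_of_pieces (D : PermData) : ∀ (m : ℕ) (l : List (List Nat)) (k : ℕ),
    (∀ i < m, D.okWords (k + i) ((l.drop i).take 1) = true) → l.length ≤ m → D.okWords k l = true
  | _, [], _, _, _ => rfl
  | 0, _ :: _, _, _, hl => by simp at hl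
  | m + 1, w :: l, k, h, hl => by
    have h0 := h 0 (Nat.succ_pos m)
    simp only [Nat.add_zero, List.drop_zero, List.take_succ_cons, List.take_zero, PermData.okWords,
      Bool.and_eq_true] at h0
    simp only [PermData.okWords, Bool.and_eq_true]
    refine ⟨h0.1, okWords_of_pieces D m l (k + 1) (fun i hi => ?_) (by simpa using hl)⟩
    have := h (i + 1) (Nat.succ_lt_succ hi)
    rw [List.drop_succ_cons] at this
    rwa [Nat.add_assoc, Nat.add_comm 1 i]

theorem words_piece0 : perm.okWords (perm.g + 0) ((perm.words.drop 0).take 1) = true := by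
  decide +kernel

theorem words_piece1 : perm.okWords (perm.g + 1) ((perm.words.drop 1).take 1) = true := by
  decide +kernel

theorem words_piece2 : perm.okWords (perm.g + 2) ((perm.words.drop 2).take 1) = true := by
  decide +kernel

theorem words_piece3 : perm.okWords (perm.g + 3) ((perm.words.drop 3).take 1) = true := by
  decide +kernel

theorem words_piece4 : perm.okWords (perm.g + 4) ((perm.words.drop 4).take 1) = true := by
  decide +kernel

theorem words_piece5 : perm.okWords (perm.g + 5) ((perm.words.drop 5).take 1) = true := by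
  decide +kernel

theorem words_piece6 : perm.okWords (perm.g + 6) ((perm.words.drop 6).take 1) = true := by
  decide +kernel

theorem words_piece7 : perm.okWords (perm.g + 7) ((perm.words.drop 7).take 1) = true := by
  decide +kernel

theorem words_piece8 : perm.okWords (perm.g + 8) ((perm.words.drop 8).take 1) = true := by
  decide +kernel

theorem words_piece9 : perm.okWords (perm.g + 9) ((perm.words.drop 9).take 1) = true := by
  decide +kernel

theorem words_piece10 : perm.okWords (perm.g + 10) ((perm.words.drop 10).take 1) = true := by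
  decide +kernel

theorem words_piece11 : perm.okWords (perm.g + 11) ((perm.words.drop 11).take 1) = true := by
  decide +kernel

theorem words_piece12 : perm.okWords (perm.g + 12) ((perm.words.drop 12).take 1) = true := by
  decide +kernel

theorem words_ok : perm.okWords perm.g perm.words = true :=
  okWords_of_pieces perm 13 perm.words perm.g (fun i hi => match i, hi with
    | 0, _ => words_piece0
    | 1, _ => words_piece1
    | 2, _ => words_piece2
    | 3, _ => words_piece3
    | 4, _ => words_piece4
    | 5, _ => words_piece5
    | 6, _ => words_piece6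
    | 7, _ => words_piece7
    | 8, _ => words_piece8
    | 9, _ => words_piece9
    | 10, _ => words_piece10
    | 11, _ => words_piece11
    | 12, _ => words_piece12
    | n + 13, hi => absurd hi (by omega)) (by decide +kernel)

set_option maxHeartbeats 0 in
theorem levels_ok : perm.okLevels [] levels = true := by decide +kernel

/-- all numeric relators -/
def relNums : List (List Nat) :=
  ((all9.flatMap fun x => (all9.filter fun y => Nat.ble (idx x) (idx y)).map fun y =>
    pairWord edges9 x y) ++ [spider9]).map fun w => w.map idx

/-- consecutive pieces of the relators are checked separately -/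
theorem okNums_of_pieces (D : PermData) (K : ℕ) : ∀ (m : ℕ) (l : List (List Nat)),
    (∀ i < m, D.okNums ((l.drop (K * i)).take K) = true) → l.length ≤ K * m → D.okNums l = true
  | 0, [], _, _ => rfl
  | 0, _ :: _, _, hl => by simp at hl
  | m + 1, l, h, hl => by
    have h0 := h 0 (Nat.succ_pos m)
    have hr := okNums_of_pieces D K m (l.drop K) (fun i hi => by
      have := h (i + 1) (Nat.succ_lt_succ hi)
      rwa [List.drop_drop, show K + K * i = K * (i + 1) by rw [Nat.mul_succ, Nat.add_comm]])
      (by rw [List.length_drop, Nat.mul_succ] at *; omega)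
    rw [Nat.mul_zero, List.drop_zero] at h0
    rw [PermData.okNums] at h0 hr ⊢
    rw [← List.take_append_drop K l, List.all_append, h0, hr]
    rfl

theorem relNums_piece0 : perm.okNums ((relNums.drop (10 * 0)).take 10) = true := by
  decide +kernel

theorem relNums_piece1 : perm.okNums ((relNums.drop (10 * 1)).take 10) = true := by
  decide +kernel

theorem relNums_piece2 : perm.okNums ((relNums.drop (10 * 2)).take 10) = true := by
  decide +kernel

theorem relNums_piece3 : perm.okNums ((relNums.drop (10 * 3)).take 10) = true := by
  decide +kernel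

theorem relNums_piece4 : perm.okNums ((relNums.drop (10 * 4)).take 10) = true := by
  decide +kernel

theorem relNums_ok : perm.okNums relNums = true :=
  okNums_of_pieces perm 10 5 relNums (fun i hi => match i, hi with
    | 0, _ => relNums_piece0
    | 1, _ => relNums_piece1
    | 2, _ => relNums_piece2
    | 3, _ => relNums_piece3
    | 4, _ => relNums_piece4
    | n + 5, hi => absurd hi (by omega)) (by decide +kernel)

theorem rels_covered : PermData.okCovered idx relNums known9 = true := by decide +kernel

/-- the representation on 2160 points -/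
noncomputable def π : P9 →* Equiv.Perm (Fin perm.n) :=
  rep perm idx invol_ok wordsFor9 relNums_ok rels_covered

theorem idx_lt (x : G9) : idx x < perm.g := by
  show idx x < 9
  cases x <;> simp [idx]

theorem π_of (x : G9) : π (g9 x) = PermData.genPerm invol_ok (idx x) :=
  rep_of invol_ok wordsFor9 relNums_ok rels_covered x

theorem π_injective : Function.Injective π := by
  have := finite
  have hrange : 19808719257600 ≤ Nat.card π.range := by
    have h := PermData.le_card (PermData.interp invol_ok) words_ok levels levels_ok
    have e : (levels.map Level.len).prod = 19808719257600 := by decide +kernel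
    rw [e] at h
    refine h.trans (Nat.le_of_dvd Nat.card_pos (Subgroup.card_dvd_of_le ?_))
    rw [PermData.grp, Subgroup.closure_le]
    rintro _ ⟨k, hk, rfl⟩
    have hk' : k < 9 := hk
    refine ⟨g9 (all9.getD k .a), ?_⟩
    rw [π_of]
    interval_cases k <;> rfl
  have hle : Nat.card P9 ≤ 19808719257600 := by
    have h := card_all_le.2
    rwa [Subgroup.card_top] at h
  have hb := Nat.bijective_iff_surjective_and_card π.rangeRestrict |>.2
    ⟨π.rangeRestrict_surjective, le_antisymm (hle.trans hrange)
      (Nat.card_le_card_of_surjective _ π.rangeRestrict_surjective)⟩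
  exact fun a b h => hb.1 (Subtype.ext h)

theorem ident9_pts {w : List G9}
    (h : ∀ i < perm.n, perm.app (w.map idx).reverse i = i) :
    (w.map g9).prod = 1 := by
  refine π_injective ?_
  rw [map_one, map_list_prod, List.map_map]
  have e : (w.map (π ∘ g9)) = (w.map idx).map (PermData.genPerm invol_ok) := by
    rw [List.map_map]
    exact List.map_congr_left fun x _ => π_of x
  rw [e]
  refine Equiv.ext fun i => Fin.ext ?_
  rw [PermData.prod_apply invol_ok _ (fun k hk => ?_) i,
    h i i.2]
  · rfl
  · obtain ⟨x, -, rfl⟩ := List.mem_map.1 hk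
    exact idx_lt x

theorem ident9 {w : List G9} (h : perm.okId (w.map idx).reverse = true) :
    (w.map g9).prod = 1 :=
  ident9_pts fun i hi => Nat.eq_of_beq_eq_true (allBelow_spec h i hi)

end CfsgLib.Spor.Y555
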