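import Cfsg.Agent.Lib.PresCert.Presented
import Cfsg.Prelude.Def_Spor_M

/-!
Groups generated by sixteen involutions satisfying the relations of the Y555 diagram and the
spider relation.
-/

namespace CfsgLib.Spor.Y555

open CfsgLib.PresCert Cfsg.Spor Cfsg.Spor.Bimonster

/-- the letters of the sub-diagram Y422 -/
inductive G9
  | a | b1 | c1 | b2 | c2 | b3 | c3 | d1 | e1
  deriving DecidableEq

/-- the letters inside the big diagram -/
def ι : G9 → Gen
  | .a => .a | .b1 => .b1 | .c1 => .c1 | .b2 => .b2 | .c2 => .c2 | .b3 => .b3 | .c3 => .c3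
  | .d1 => .d1 | .e1 => .e1

/-- numbering -/
def idx : G9 → ℕ
  | .a => 0 | .b1 => 1 | .c1 => 2 | .b2 => 3 | .c2 => 4 | .b3 => 5 | .c3 => 6 | .d1 => 7 | .e1 => 8

/-- the nine letters -/
def all9 : List G9 := [.a, .b1, .c1, .b2, .c2, .b3, .c3, .d1, .e1]

theorem mem_all9 : ∀ x, x ∈ all9 := by intro x; cases x <;> decide

/-- the edges of Y422 -/
def edges9 : List (G9 × ℕ × G9) :=
  [(.a, 3, .b1), (.a, 3, .b2), (.a, 3, .b3), (.b1, 3, .c1), (.c1, 3, .d1), (.d1, 3, .e1),
    (.b2, 3, .c2), (.b3, 3, .c3)]

theorem mem_nodes9 : ∀ x : G9, x ∈ coxNodes edges9 := by intro x; cases x <;> decide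

/-- all sixteen letters -/
def all16 : List Gen :=
  [.a, .b1, .c1, .d1, .e1, .f1, .b2, .c2, .d2, .e2, .f2, .b3, .c3, .d3, .e3, .f3]

theorem mem_all16 : ∀ x, x ∈ all16 := by intro x; cases x <;> decide

theorem mem_nodes : ∀ x : Gen, x ∈ coxNodes edges := by intro x; cases x <;> decide

/-- the spider word -/
def spider9 : List G9 :=
  (List.replicate 10 [.a, .b1, .c1, .a, .b2, .c2, .a, .b3, .c3]).flatten

/-- the spider word in the big diagram -/
def spiderW : List Gen := spider9.map ι

/-- the spider as a free word -/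
def extra9 : List (FreeGroup G9) :=
  [(FreeGroup.of G9.a * FreeGroup.of .b1 * FreeGroup.of .c1 * FreeGroup.of .a * FreeGroup.of .b2 *
    FreeGroup.of .c2 * FreeGroup.of .a * FreeGroup.of .b3 * FreeGroup.of .c3) ^ 10]

theorem wordsFor9 : WordsFor extra9 [spider9] := by
  intro Q _ f _
  simp [extra9, spider9, pow_succ, List.replicate_succ, mul_assoc]

/-- all relator words of Y422 with the spider -/
def known9 : List (List G9) := knownWords edges9 [spider9]

/-- all relator words of Y555 with the spider -/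
def known16 : List (List Gen) := knownWords edges [spiderW]

/-- the word whose value is the proposed value of the end node of the first arm -/
def z9 : List G9 := (List.replicate 9 [.a, .b1, .b2, .b3, .c1, .c2, .d1]).flatten

/-- the same with the other two arms interchanged -/
def z9' : List G9 := (List.replicate 9 [.a, .b1, .b3, .b2, .c1, .c3, .d1]).flatten

/-- the cube of the product of the end-node word and the next node -/
def c9 : List G9 := (List.replicate 3 (z9 ++ [.e1])).flatten

/-- cyclic permutation of the arms -/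
def cyc : Gen → Gen
  | .a => .a | .b1 => .b2 | .c1 => .c2 | .d1 => .d2 | .e1 => .e2 | .f1 => .f2
  | .b2 => .b3 | .c2 => .c3 | .d2 => .d3 | .e2 => .e3 | .f2 => .f3
  | .b3 => .b1 | .c3 => .c1 | .d3 => .d1 | .e3 => .e1 | .f3 => .f1

/-- interchange of the second and third arm -/
def sw23 : Gen → Gen
  | .a => .a | .b1 => .b1 | .c1 => .c1 | .d1 => .d1 | .e1 => .e1 | .f1 => .f1
  | .b2 => .b3 | .c2 => .c3 | .d2 => .d3 | .e2 => .e3 | .f2 => .f3
  | .b3 => .b2 | .c3 => .c2 | .d3 => .d2 | .e3 => .e2 | .f3 => .f2

/-- interchange of the first and second arm -/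
def sw12 : Gen → Gen := cyc ∘ sw23

theorem sw12_sw12 (x : Gen) : sw12 (sw12 x) = x := by cases x <;> rfl

section Sys

variable {Q : Type*} [Group Q]

/-- the relations of Y555 with the spider relation -/
structure Sys (f : Gen → Q) : Prop where
  cox : ∀ x y, (f x * f y) ^ coxLabel edges x y = 1
  spider : (spiderW.map f).prod = 1

/-- all generators have the same image -/
def Coll (f : Gen → Q) : Prop := ∀ x y, f x = f y

variable {f : Gen → Q}

theorem Sys.sq (S : Sys f) (x : Gen) : f x * f x = 1 := by simpa [coxLabel] using S.cox x x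

theorem Sys.comm (S : Sys f) {x y : Gen} (h : coxLabel edges x y = 2) : Commute (f x) (f y) := by
  have e := S.cox x y
  rw [h, pow_two] at e
  have hx : (f x)⁻¹ = f x := inv_eq_of_mul_eq_one_left (S.sq x)
  have hy : (f y)⁻¹ = f y := inv_eq_of_mul_eq_one_left (S.sq y)
  show f x * f y = f y * f x
  rw [eq_inv_of_mul_eq_one_left e, mul_inv_rev, hx, hy]

theorem Sys.eq_of_comm (S : Sys f) {x y : Gen} (h : coxLabel edges x y = 3)
    (hc : Commute (f x) (f y)) : f x = f y := by
  have h3 := S.cox x y
  have hsq : ∀ z, f z ^ 2 = 1 := fun z => by rw [pow_two, S.sq]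
  rw [h, hc.mul_pow, pow_succ (f x), pow_succ (f y), hsq, hsq, one_mul, one_mul] at h3
  rw [eq_inv_of_mul_eq_one_left h3, inv_eq_of_mul_eq_one_left (S.sq y)]

theorem Sys.step (S : Sys f) (u v w : Gen) (h2 : coxLabel edges v w = 3)
    (h3 : coxLabel edges u w = 2) (e : f u = f v) : f v = f w :=
  S.eq_of_comm h2 (e ▸ S.comm h3)

theorem Sys.coll_of_base (S : Sys f) (h : f Gen.a = f .b1) : Coll f := by
  have hb2 := S.step .b1 .a .b2 (by decide) (by decide) h.symm
  have hb3 := S.step .b1 .a .b3 (by decide) (by decide) h.symm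
  have hc1 := S.step .a .b1 .c1 (by decide) (by decide) h
  have hd1 := S.step .b1 .c1 .d1 (by decide) (by decide) hc1
  have he1 := S.step .c1 .d1 .e1 (by decide) (by decide) hd1
  have hf1 := S.step .d1 .e1 .f1 (by decide) (by decide) he1
  have hc2 := S.step .a .b2 .c2 (by decide) (by decide) hb2
  have hd2 := S.step .b2 .c2 .d2 (by decide) (by decide) hc2
  have he2 := S.step .c2 .d2 .e2 (by decide) (by decide) hd2
  have hf2 := S.step .d2 .e2 .f2 (by decide) (by decide) he2
  have hc3 := S.step .a .b3 .c3 (by decide) (by decide) hb3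
  have hd3 := S.step .b3 .c3 .d3 (by decide) (by decide) hc3
  have he3 := S.step .c3 .d3 .e3 (by decide) (by decide) hd3
  have hf3 := S.step .d3 .e3 .f3 (by decide) (by decide) he3
  have key : ∀ x, f x = f .a := by
    intro x; cases x <;> grind
  exact fun x y => (key x).trans (key y).symm

theorem Sys.coll_of_eq (S : Sys f) {x y : Gen} (hxy : coxLabel edges x y = 3) (e : f x = f y) :
    Coll f := by
  apply S.coll_of_base
  have st : ∀ u v w, coxLabel edges v w = 3 → coxLabel edges u w = 2 → f u = f v → f w = f v :=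
    fun u v w h2 h3 h => (S.step u v w h2 h3 h).symm
  have a2 : f .a = f .b2 → f .a = f .b1 := fun h =>
    (st .b2 .a .b1 (by decide) (by decide) h.symm).symm
  have a3 : f .a = f .b3 → f .a = f .b1 := fun h =>
    (st .b3 .a .b1 (by decide) (by decide) h.symm).symm
  have c1 : f .b1 = f .c1 → f .a = f .b1 := fun h => st .c1 .b1 .a (by decide) (by decide) h.symm
  have d1 : f .c1 = f .d1 → f .a = f .b1 := fun h =>
    c1 (st .d1 .c1 .b1 (by decide) (by decide) h.symm)
  have e1 : f .d1 = f .e1 → f .a = f .b1 := fun h =>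
    d1 (st .e1 .d1 .c1 (by decide) (by decide) h.symm)
  have f1 : f .e1 = f .f1 → f .a = f .b1 := fun h =>
    e1 (st .f1 .e1 .d1 (by decide) (by decide) h.symm)
  have c2 : f .b2 = f .c2 → f .a = f .b1 := fun h =>
    a2 (st .c2 .b2 .a (by decide) (by decide) h.symm)
  have d2 : f .c2 = f .d2 → f .a = f .b1 := fun h =>
    c2 (st .d2 .c2 .b2 (by decide) (by decide) h.symm)
  have e2 : f .d2 = f .e2 → f .a = f .b1 := fun h =>
    d2 (st .e2 .d2 .c2 (by decide) (by decide) h.symm)
  have f2 : f .e2 = f .f2 → f .a = f .b1 := fun h =>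
    e2 (st .f2 .e2 .d2 (by decide) (by decide) h.symm)
  have c3 : f .b3 = f .c3 → f .a = f .b1 := fun h =>
    a3 (st .c3 .b3 .a (by decide) (by decide) h.symm)
  have d3 : f .c3 = f .d3 → f .a = f .b1 := fun h =>
    c3 (st .d3 .c3 .b3 (by decide) (by decide) h.symm)
  have e3 : f .d3 = f .e3 → f .a = f .b1 := fun h =>
    d3 (st .e3 .d3 .c3 (by decide) (by decide) h.symm)
  have f3 : f .e3 = f .f3 → f .a = f .b1 := fun h =>
    e3 (st .f3 .e3 .d3 (by decide) (by decide) h.symm)
  cases x <;> cases y <;> first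
    | exact absurd hxy (by decide)
    | exact e | exact e.symm
    | exact a2 e | exact a3 e | exact c1 e | exact d1 e | exact e1 e | exact f1 e
    | exact c2 e | exact d2 e | exact e2 e | exact f2 e
    | exact c3 e | exact d3 e | exact e3 e | exact f3 e
    | exact a2 e.symm | exact a3 e.symm | exact c1 e.symm | exact d1 e.symm | exact e1 e.symm
    | exact f1 e.symm | exact c2 e.symm | exact d2 e.symm | exact e2 e.symm | exact f2 e.symm
    | exact c3 e.symm | exact d3 e.symm | exact e3 e.symm | exact f3 e.symm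

theorem Sys.coll_of_comm (S : Sys f) {x y : Gen} (h : coxLabel edges x y = 3)
    (hc : Commute (f x) (f y)) : Coll f :=
  S.coll_of_eq h (S.eq_of_comm h hc)

theorem Sys.known (S : Sys f) : ∀ w ∈ known16, (w.map f).prod = 1 :=
  knownWords_eq_one edges _ f (fun x _ y _ => S.cox x y) fun w hw => by
    rw [List.mem_singleton.1 hw]; exact S.spider

theorem known9_sub : (known9.all fun w => known16.contains (w.map ι)) = true := by decide +kernel

theorem Sys.known9 (S : Sys f) : ∀ w ∈ known9, (w.map (f ∘ ι)).prod = 1 := fun w hw => by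
  rw [← List.map_map]
  exact S.known _ (List.contains_iff_mem.1 (List.all_eq_true.1 known9_sub w hw))

theorem Sys.comp (S : Sys f) (π : Gen → Gen)
    (hπ : (all16.all fun x => all16.all fun y =>
      Nat.beq (coxLabel edges (π x) (π y)) (coxLabel edges x y)) = true)
    (hs : ((spiderW.map π).map f).prod = 1) : Sys (f ∘ π) where
  cox x y := by
    rw [← Nat.eq_of_beq_eq_true (List.all_eq_true.1 (List.all_eq_true.1 hπ x (mem_all16 x)) y
      (mem_all16 y))]
    exact S.cox (π x) (π y)
  spider := by rwa [← List.map_map]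

theorem Sys.comp_cyc (S : Sys f) : Sys (f ∘ cyc) := by
  refine S.comp cyc (by decide +kernel) ?_
  have e : spiderW.map cyc = spiderW.drop 3 ++ spiderW.take 3 := by decide +kernel
  rw [e, List.map_append, List.prod_append]
  refine mul_eq_one_comm.1 ?_
  rw [← List.prod_append, ← List.map_append, List.take_append_drop]
  exact S.spider

end Sys

end CfsgLib.Spor.Y555
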